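import Groth.Agent.Lib.Cutoff3.Fibre
import Groth.Agent.Lib.RegCompl.Basic
import Groth.Agent.Lib.GeomReg.FiniteGRing
import Groth.Agent.Lib.AdicExtra.Local
import Groth.Agent.Lib.DualCx22.EssFT
import Groth.Agent.S1721
import Groth.Agent.S1723
import Groth.Agent.Lib.SnFibres.Basic

/-!
# Depth along an adic completion
-/

set_option autoImplicit false
set_option linter.style.haveILetI false
universe u

open IsLocalRing TensorProduct

namespace GrothLib.Cutoff3

/-- Intervals of primes as heights. -/
theorem krullDim_Icc_eq {R : Type u} [CommRing R] (p q : PrimeSpectrum R) (h : p ≤ q) :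
    Order.krullDim (Set.Icc p q) = (((q.asIdeal.map (Ideal.Quotient.mk p.asIdeal)).height : ℕ∞) : WithBot ℕ∞) := by
  rw [← height_Ici p q h, Order.height_eq_krullDim_Iic]
  exact Order.krullDim_eq_of_orderIso
    { toFun := fun x => ⟨⟨x.1, x.2.1⟩, x.2.2⟩
      invFun := fun x => ⟨x.1.1, x.1.2, x.2⟩
      left_inv := fun _ => rfl
      right_inv := fun _ => rfl
      map_rel_iff' := Iff.rfl }

section General

variable {A : Type u} [CommRing A] [IsNoetherianRing A] (I : Ideal A)

/-- Primes of the completion containing the ideal of definition are extended. -/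
theorem eq_map_of_le (q' : Ideal (AdicCompletion I A)) [q'.IsPrime] (h : I.map (algebraMap A _) ≤ q') :
    q' = (q'.under A).map (algebraMap A (AdicCompletion I A)) := by
  refine le_antisymm (fun x hx => ?_) Ideal.map_comap_le
  obtain ⟨a, ha⟩ := GrothLib.RegCompl.exists_sub_mem_map I (IsNoetherian.noetherian I) x
  rw [← sub_add_cancel x (algebraMap A _ a)]
  refine add_mem (Ideal.map_mono (Ideal.map_le_iff_le_comap.1 h) ha) (Ideal.mem_map_of_mem _ ?_)
  show algebraMap A _ a ∈ q'
  have := sub_mem hx (h ha)
  rwa [sub_sub_cancel] at this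

/-- The depths and intervals under an adic completion. -/
theorem depth_adicCompletion (hUC : CAlg.IsUniversallyCatenary A)
    (hCM : ∀ q : Ideal A, ∀ [q.IsPrime], EGA4.HasCMFormalFibres (Localization.AtPrime q))
    (M : Type u) [AddCommGroup M] [Module A M] [Module.Finite A M]
    (p' q' : Ideal (AdicCompletion I A)) [p'.IsPrime] [q'.IsPrime] (hpq : p' ≤ q')
    (hq : I.map (algebraMap A _) ≤ q') :
    LocCoh.depth (Localization.AtPrime (p'.under A)) (LocalizedModule (p'.under A).primeCompl M) ≤
        LocCoh.depth (Localization.AtPrime p') (LocalizedModule p'.primeCompl (AdicCompletion I A ⊗[A] M)) ∧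
      term (AdicCompletion I A ⊗[A] M) p' q' = term M (p'.under A) (q'.under A) := by
  let A' := AdicCompletion I A
  haveI : IsNoetherianRing A' :=
    GrothLib.AdicExtra.isNoetherianRing_adicCompletion_of_fg I (IsNoetherian.noetherian I)
  haveI : Module.Flat A A' := AdicCompletion.flat_of_isNoetherian I
  set p := p'.under A with hp
  set q := q'.under A with hqdef
  have hpq0 : p ≤ q := Ideal.comap_mono hpq
  let L := Localization.AtPrime q
  let L' := Localization.AtPrime q'
  haveI : IsNoetherianRing L := GrothLib.Depth.isNoetherian_atPrime q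
  haveI : IsNoetherianRing L' := GrothLib.Depth.isNoetherian_atPrime q'
  -- the two completions agree
  letI : Algebra L L' := (Localization.localRingHom q q' (algebraMap A A') rfl).toAlgebra
  haveI : IsScalarTower A L L' := IsScalarTower.of_algebraMap_eq fun a => by
    show algebraMap A L' a = Localization.localRingHom q q' (algebraMap A A') rfl (algebraMap A L a)
    rw [Localization.localRingHom_to_map]
    exact IsScalarTower.algebraMap_apply A A' L' a
  haveI : IsLocalHom (algebraMap L L') := Localization.isLocalHom_localRingHom q q' (algebraMap A A') rfl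
  haveI : Module.Flat L L' :=
    (Module.flat_iff_of_isLocalization L q.primeCompl _).mpr (Module.Flat.trans A A' L')
  have hm : (maximalIdeal L).map (algebraMap L L') = maximalIdeal L' := by
    rw [← Localization.AtPrime.map_eq_maximalIdeal, Ideal.map_map, ← IsScalarTower.algebraMap_eq,
      IsScalarTower.algebraMap_eq A A' L', ← Ideal.map_map, ← eq_map_of_le I q' hq,
      Localization.AtPrime.map_eq_maximalIdeal]
  have hk : Function.Bijective (ResidueField.map (algebraMap L L')) := by
    refine ⟨RingHom.injective _, fun x => ?_⟩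
    obtain ⟨z, rfl⟩ := residue_surjective x
    obtain ⟨⟨z, t⟩, rfl⟩ := IsLocalization.mk'_surjective q'.primeCompl z
    obtain ⟨a, ha⟩ := GrothLib.RegCompl.exists_sub_mem_map I (IsNoetherian.noetherian I) z
    obtain ⟨b, hb⟩ := GrothLib.RegCompl.exists_sub_mem_map I (IsNoetherian.noetherian I) t.1
    have hbq : b ∉ q := fun h => t.2 (by
      have := add_mem (hq hb) (show algebraMap A A' b ∈ q' from h)
      rwa [sub_add_cancel] at this)
    refine ⟨residue L (IsLocalization.mk' L a (⟨b, hbq⟩ : q.primeCompl)), ?_⟩
    rw [ResidueField.map_residue, ← sub_eq_zero, ← map_sub, residue_eq_zero_iff]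
    refine ((maximalIdeal.isMaximal L').isPrime.mem_or_mem (x := algebraMap A' L' (algebraMap A A' b * t.1)) ?_).resolve_left
      fun h => ((IsLocalization.AtPrime.to_map_mem_maximal_iff L' q' _).1 h |> fun h' =>
        ((‹q'.IsPrime›).mem_or_mem h').elim hbq t.2)
    have e1 : algebraMap A' L' (algebraMap A A' b) * algebraMap L L' (IsLocalization.mk' L a (⟨b, hbq⟩ : q.primeCompl)) =
        algebraMap A' L' (algebraMap A A' a) := by
      rw [← IsScalarTower.algebraMap_apply, ← IsScalarTower.algebraMap_apply, IsScalarTower.algebraMap_apply A L L',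
        IsScalarTower.algebraMap_apply A L L', ← map_mul, IsLocalization.mk'_spec' L a (⟨b, hbq⟩ : q.primeCompl)]
    have e2 : algebraMap A' L' t.1 * IsLocalization.mk' L' z t = algebraMap A' L' z := IsLocalization.mk'_spec' L' z t
    have e3 : algebraMap A' L' (algebraMap A A' b * t.1) *
        (algebraMap L L' (IsLocalization.mk' L a (⟨b, hbq⟩ : q.primeCompl)) - IsLocalization.mk' L' z t) =
        algebraMap A' L' (algebraMap A A' a * (t.1 - algebraMap A A' b) - algebraMap A A' b * (z - algebraMap A A' a)) := by
      simp only [map_sub, map_mul]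
      linear_combination (algebraMap A' L' t.1) * e1 - (algebraMap A' L' (algebraMap A A' b)) * e2
    rw [e3]
    exact (IsLocalization.AtPrime.to_map_mem_maximal_iff L' q' _).2
      (sub_mem (Ideal.mul_mem_left _ _ (hq hb)) (Ideal.mul_mem_left _ _ (hq ha)))
  obtain ⟨ψ, hψ⟩ := GrothLib.GeomReg.exists_completion_map L L'
  let e : EGA4.Cpl L ≃+* EGA4.Cpl L' := RingEquiv.ofBijective ψ (GrothLib.AdicExtra.bijective_completion ψ hψ hm hk)
  let C := EGA4.Cpl L
  haveI : Module.FaithfullyFlat L C := GrothLib.Excellent.faithfullyFlat_cpl L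
  haveI : IsScalarTower A L C := inferInstance
  haveI : Module.Flat A C := Module.Flat.trans A L C
  let ι' : L' →+* C := e.symm.toRingHom.comp (algebraMap L' (EGA4.Cpl L'))
  letI : Algebra L' C := ι'.toAlgebra
  letI : Algebra A' C := (ι'.comp (algebraMap A' L')).toAlgebra
  haveI : IsScalarTower A' L' C := IsScalarTower.of_algebraMap_eq fun _ => rfl
  haveI : IsScalarTower A A' C := IsScalarTower.of_algebraMap_eq fun a => by
    refine e.injective ?_
    show e (algebraMap A C a) = e (e.symm (algebraMap L' _ (algebraMap A' L' (algebraMap A A' a))))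
    rw [e.apply_symm_apply, IsScalarTower.algebraMap_apply A L C,
      ← IsScalarTower.algebraMap_apply A A' L', IsScalarTower.algebraMap_apply A L L']
    exact RingHom.congr_fun hψ (algebraMap A L a)
  haveI : Module.Flat L' C := by
    haveI := GrothLib.Excellent.faithfullyFlat_cpl L'
    exact RingHom.flat_algebraMap_iff.1 ((RingHom.flat_algebraMap_iff.2 (inferInstance : Module.Flat L' (EGA4.Cpl L'))).comp
      (RingHom.Flat.of_bijective e.symm.bijective))
  haveI : Module.Flat A' C := Module.Flat.trans A' L' C
  have hmC : (maximalIdeal L').map (algebraMap L' C) = maximalIdeal C := by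
    show (maximalIdeal L').map (e.symm.toRingHom.comp (algebraMap L' (EGA4.Cpl L'))) = _
    rw [← Ideal.map_map, ← AdicCompletion.maximalIdeal_eq_map]
    exact IsLocalRing.eq_maximalIdeal (Ideal.IsMaximal.map_bijective _ e.symm.bijective (maximalIdeal.isMaximal _))
  haveI : IsLocalHom (algebraMap L' C) := ((local_hom_TFAE _).out 0 2 rfl rfl).mpr hmC.le
  -- the primes
  have hp'L : (p'.map (algebraMap A' L')).IsPrime := IsLocalization.isPrime_of_isPrime_disjoint q'.primeCompl L' p' ‹_›
    (GrothLib.Faltings.disjoint_primeCompl hpq)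
  have hpL : (p.map (algebraMap A L)).IsPrime := IsLocalization.isPrime_of_isPrime_disjoint q.primeCompl L p inferInstance
    (GrothLib.Faltings.disjoint_primeCompl hpq0)
  obtain ⟨P, hP, hPq⟩ := GrothLib.Ratliff.exists_minimal_qdim
    (GrothLib.Ratliff.map_ne_top (A' := C) (I := p'.map (algebraMap A' L')) Ideal.IsPrime.ne_top')
  haveI := hP.1.1
  have hP' : P ∈ (p'.map (algebraMap A' C)).minimalPrimes := by
    rwa [IsScalarTower.algebraMap_eq A' L' C, ← Ideal.map_map]
  have hPp' : P.comap (algebraMap A' C) = p' := GrothLib.Ratliff.comap_of_minimalPrimes (R := A') p' hP'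
  have hPp : P.comap (algebraMap A C) = p := by
    rw [IsScalarTower.algebraMap_eq A A' C, ← Ideal.comap_comap, hPp']
  have hPL : P.comap (algebraMap L C) = p.map (algebraMap A L) := by
    rw [← hPp, IsScalarTower.algebraMap_eq A L C, ← Ideal.comap_comap]
    exact (IsLocalization.map_comap q.primeCompl L _).symm
  -- dimensions
  have hdim' : GrothLib.Ratliff.qdim P = (q'.map (Ideal.Quotient.mk p')).height := by
    rw [hPq, GrothLib.Ratliff.qdim_map Ideal.IsPrime.ne_top', hmC,
      show GrothLib.Ratliff.qdim (maximalIdeal C) = 0 by rw [GrothLib.Ratliff.qdim, Ideal.map_quotient_self, Ideal.height_bot],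
      add_zero]
    show ((maximalIdeal L').map (Ideal.Quotient.mk (p'.map (algebraMap A' L')))).height = _
    rw [← Localization.AtPrime.map_eq_maximalIdeal (I := q')]
    exact GrothLib.Faltings.relHeight_atPrime p' q' q' hpq le_rfl
  have hdim : (q.map (Ideal.Quotient.mk p)).height =
      (P.map (Ideal.Quotient.mk (p.map (algebraMap A C)))).height + GrothLib.Ratliff.qdim P := by
    have h1 := height_compare (GrothLib.Excellent.isUniversallyCatenary_localization q.primeCompl hUC : CAlg.IsUniversallyCatenary L)
      P (maximalIdeal C) (IsLocalRing.le_maximalIdeal Ideal.IsPrime.ne_top')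
    have hmm : (maximalIdeal C).under L = maximalIdeal L := GrothLib.Ratliff.comap_maximalIdeal'
    rw [hmm, ← AdicCompletion.maximalIdeal_eq_map, Ideal.map_quotient_self, Ideal.height_bot, add_zero,
      show P.under L = p.map (algebraMap A L) from hPL, Ideal.map_map, ← IsScalarTower.algebraMap_eq] at h1
    rw [add_comm, show GrothLib.Ratliff.qdim P = ((maximalIdeal C).map (Ideal.Quotient.mk P)).height from rfl, h1,
      ← Localization.AtPrime.map_eq_maximalIdeal (I := q)]
    exact (GrothLib.Faltings.relHeight_atPrime p q q hpq0 le_rfl).symm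
  -- depths
  let eM : C ⊗[A'] (A' ⊗[A] M) ≃ₗ[C] C ⊗[A] M := AlgebraTensorModule.cancelBaseChange A A' C C M
  have h' := depth_formula (R := A') P (A' ⊗[A] M)
  have h := depth_formula (R := A) P M
  rw [depth_fib_eq_zero (R := A') P (by rw [hPp']; exact hP'), add_zero] at h'
  haveI := GrothLib.Depth.isNoetherian_atPrime P
  let eP : LocalizedModule P.primeCompl (C ⊗[A'] (A' ⊗[A] M)) ≃ₗ[Localization.AtPrime P]
      LocalizedModule P.primeCompl (C ⊗[A] M) := LinearEquiv.ofBijective (LocalizedModule.map P.primeCompl eM.toLinearMap)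
      ⟨LocalizedModule.map_injective _ _ eM.injective, LocalizedModule.map_surjective _ _ eM.surjective⟩
  haveI : Module.Finite (Localization.AtPrime P) (LocalizedModule P.primeCompl (C ⊗[A] M)) :=
    Module.Finite.of_isLocalizedModule P.primeCompl (LocalizedModule.mkLinearMap P.primeCompl _)
  haveI : Module.Finite (Localization.AtPrime P) (LocalizedModule P.primeCompl (C ⊗[A'] (A' ⊗[A] M))) :=
    Module.Finite.equiv eP.symm
  rw [show LocCoh.depth (Localization.AtPrime P) (LocalizedModule P.primeCompl (C ⊗[A'] (A' ⊗[A] M))) =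
    LocCoh.depth (Localization.AtPrime P) (LocalizedModule P.primeCompl (C ⊗[A] M)) from
    GrothLib.Depth.idealDepth_eq_of_equiv _ eP, h] at h'
  -- the fibre is Cohen–Macaulay
  haveI := isLocalRing_fib (R := A) P
  haveI := isLocalRing_fib (R := L) P
  have hfib : LocCoh.depth (EGA4.FibLocRing A C P) (EGA4.FibLocRing A C P) =
      (P.map (Ideal.Quotient.mk (p.map (algebraMap A C)))).height := by
    haveI : IsNoetherianRing ((P.comap (algebraMap L C)).Fiber C) := GrothLib.FormalDescent.isNoetherianRing_fiber L C _
    let ee : EGA4.FibLocRing L C P ≃+* EGA4.FibLocRing A C P := Ideal.quotEquivOfEq (by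
      rw [hPL, hPp, Ideal.map_map, ← IsScalarTower.algebraMap_eq])
    have hh : (P.map (Ideal.Quotient.mk ((P.comap (algebraMap A C)).map (algebraMap A C)))).height =
        (P.map (Ideal.Quotient.mk (p.map (algebraMap A C)))).height := by rw [hPp]
    refine le_antisymm ?_ ?_
    · have h1 := GrothLib.CMMor6.depth_le_dim (EGA4.FibLocRing A C P)
      rw [ringKrullDim_fib, hh, WithBot.coe_le_coe] at h1
      exact h1
    · obtain ⟨n, hn⟩ := ENat.ne_top_iff_exists.1 (show (P.map (Ideal.Quotient.mk (p.map (algebraMap A C)))).height ≠ ⊤ from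
        fun htop => by
          have hd := hdim
          rw [htop, top_add] at hd
          exact GrothLib.Faltings.relHeight_ne_top p q hpq0 hd)
      obtain ⟨Q, ⟨eQ⟩⟩ := GrothLib.Excellent.exists_fibre_point (A := L) P
      haveI := GrothLib.Depth.isNoetherian_atPrime Q.asIdeal
      haveI : IsNoetherianRing (EGA4.FibLocRing L C P) := isNoetherianRing_of_ringEquiv _ eQ
      have h1 : GrothLib.SyntLoc.SkBound n (EGA4.FibLocRing A C P) :=
        GrothLib.SyntLoc.skBound_congr ee (GrothLib.SyntLoc.skBound_congr eQ ((GrothLib.SyntLoc.hasSk_iff_skBound _).1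
          (GrothLib.SnFibres.isCohenMacaulayRing_iff_forall_hasSk.1 (hCM q (P.comap (algebraMap L C))) n) Q.asIdeal))
      rw [GrothLib.SyntLoc.SkBound, ringKrullDim_fib, hh, ← hn] at h1
      rw [← hn]
      rw [show (((n : ℕ∞) : WithBot ℕ∞)) = (n : WithBot ℕ∞) from rfl, min_self] at h1
      exact_mod_cast h1
  have hp' : ∀ {X : Ideal A'} [X.IsPrime], X = p' →
      LocCoh.depth (Localization.AtPrime X) (LocalizedModule X.primeCompl (A' ⊗[A] M)) =
        LocCoh.depth (Localization.AtPrime p') (LocalizedModule p'.primeCompl (A' ⊗[A] M)) := by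
    rintro X _ rfl; rfl
  have hp0 : ∀ {X : Ideal A} [X.IsPrime], X = p →
      LocCoh.depth (Localization.AtPrime X) (LocalizedModule X.primeCompl M) =
        LocCoh.depth (Localization.AtPrime p) (LocalizedModule p.primeCompl M) := by
    rintro X _ rfl; rfl
  rw [hp' hPp', hp0 hPp, hfib] at h'
  refine ⟨h' ▸ le_self_add, ?_⟩
  unfold term
  rw [← hdim', ← h', hdim, add_assoc]

end General

end GrothLib.Cutoff3
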