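import Groth.Agent.Lib.Faltings.UpperBound
import Groth.Agent.Lib.Faltings.Finite
import Groth.Agent.Lib.Faltings.Transfer
import Groth.Agent.Lib.Faltings.Localize
import Groth.Prelude.Def_DualLC

/-!
# The invariant `s_{A,I}(M)`
-/

set_option autoImplicit false
set_option linter.style.haveILetI false
universe u

open IsLocalRing

namespace GrothLib.Cutoff3

variable {A : Type u} [CommRing A]

/-- The primes above `p`, as primes of the quotient. -/
noncomputable def iciIso (p : PrimeSpectrum A) : PrimeSpectrum (A ⧸ p.asIdeal) ≃o Set.Ici p where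
  toFun x := ⟨PrimeSpectrum.comap (Ideal.Quotient.mk p.asIdeal) x, fun a ha => by
    show Ideal.Quotient.mk p.asIdeal a ∈ x.asIdeal
    rw [Ideal.Quotient.eq_zero_iff_mem.2 ha]
    exact zero_mem _⟩
  invFun y := ⟨y.1.asIdeal.map (Ideal.Quotient.mk p.asIdeal), Ideal.isPrime_map_quotientMk_of_isPrime y.2⟩
  left_inv x := PrimeSpectrum.ext (Ideal.map_comap_of_surjective _ Ideal.Quotient.mk_surjective _)
  right_inv y := Subtype.ext (PrimeSpectrum.ext (by
    show (y.1.asIdeal.map (Ideal.Quotient.mk p.asIdeal)).comap _ = _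
    rw [Ideal.comap_map_of_surjective' _ Ideal.Quotient.mk_surjective, Ideal.mk_ker]
    exact sup_eq_left.2 y.2))
  map_rel_iff' {x y} := Ideal.comap_le_comap_iff_of_surjective _ Ideal.Quotient.mk_surjective _ _

theorem height_Ici (p q : PrimeSpectrum A) (h : p ≤ q) :
    Order.height (⟨q, h⟩ : Set.Ici p) = (q.asIdeal.map (Ideal.Quotient.mk p.asIdeal)).height := by
  haveI : (q.asIdeal.map (Ideal.Quotient.mk p.asIdeal)).IsPrime := Ideal.isPrime_map_quotientMk_of_isPrime h
  rw [← Order.height_orderIso (iciIso p).symm (⟨q, h⟩ : Set.Ici p)]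
  exact (PrimeSpectrum.height_eq_orderHeight _).symm

variable (I : Ideal A) (M : Type u) [AddCommGroup M] [Module A M]

/-- The summand at a pair of primes. -/
noncomputable def term (p q : Ideal A) [p.IsPrime] : ℕ∞ :=
  LocCoh.depth (Localization.AtPrime p) (LocalizedModule p.primeCompl M) + (q.map (Ideal.Quotient.mk p)).height

theorem le_cutoff_iff (n : ℕ∞) : n ≤ Dual2.cutoff A I M ↔
    ∀ (p q : Ideal A) [p.IsPrime] [q.IsPrime], p ≤ q → ¬ I ≤ p → I ≤ q → n ≤ term M p q := by
  simp only [Dual2.cutoff, le_iInf_iff, height_Ici]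
  exact ⟨fun h p q _ _ hpq hp hq => h ⟨p, inferInstance⟩ ⟨q, inferInstance⟩ hpq hp hq,
    fun h p q hpq hp hq => h p.asIdeal q.asIdeal hpq hp hq⟩

theorem cutoff_le_term {p q : Ideal A} [p.IsPrime] [q.IsPrime] (hpq : p ≤ q) (hp : ¬ I ≤ p) (hq : I ≤ q) :
    Dual2.cutoff A I M ≤ term M p q :=
  (le_cutoff_iff I M _).1 le_rfl p q hpq hp hq

theorem exists_term_eq {s : ℕ} (h : Dual2.cutoff A I M = s) :
    ∃ (p q : Ideal A) (_ : p.IsPrime) (_ : q.IsPrime), p ≤ q ∧ ¬ I ≤ p ∧ I ≤ q ∧ term M p q ≤ s := by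
  by_contra hcon
  push Not at hcon
  have h1 : ((s + 1 : ℕ) : ℕ∞) ≤ Dual2.cutoff A I M := (le_cutoff_iff I M _).2 fun p q hp hq hpq hIp hIq => by
    have := hcon p q hp hq hpq hIp hIq
    rw [Nat.cast_succ]
    exact Order.add_one_le_of_lt this
  rw [h] at h1
  norm_cast at h1
  omega

variable {M}

theorem term_congr [IsNoetherianRing A] [Module.Finite A M] {M' : Type u} [AddCommGroup M'] [Module A M'] (e : M ≃ₗ[A] M') (p q : Ideal A) [p.IsPrime] :
    term M p q = term M' p q := by
  haveI := GrothLib.Depth.isNoetherian_atPrime p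
  haveI : Module.Finite (Localization.AtPrime p) (LocalizedModule p.primeCompl M) :=
    Module.Finite.of_isLocalizedModule p.primeCompl (LocalizedModule.mkLinearMap p.primeCompl M)
  let e' : LocalizedModule p.primeCompl M ≃ₗ[Localization.AtPrime p] LocalizedModule p.primeCompl M' :=
    LinearEquiv.ofBijective (LocalizedModule.map p.primeCompl e.toLinearMap)
      ⟨LocalizedModule.map_injective _ _ e.injective, LocalizedModule.map_surjective _ _ e.surjective⟩
  haveI := Module.Finite.equiv e'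
  unfold term LocCoh.depth
  rw [GrothLib.Depth.idealDepth_eq_of_equiv _ e']

theorem cutoff_congr [IsNoetherianRing A] [Module.Finite A M] {M' : Type u} [AddCommGroup M'] [Module A M'] (e : M ≃ₗ[A] M') :
    Dual2.cutoff A I M = Dual2.cutoff A I M' :=
  le_antisymm ((le_cutoff_iff I M' _).2 fun p q _ _ h hp hq => term_congr e p q ▸ cutoff_le_term I M h hp hq)
    ((le_cutoff_iff I M _).2 fun p q _ _ h hp hq => (term_congr e p q).symm ▸ cutoff_le_term I M' h hp hq)

variable [IsNoetherianRing A] (M) [Module.Finite A M]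

/-- Non-finiteness at the cutoff, given finiteness below it. -/
theorem not_finite_of_eq {s : ℕ} (hs : Dual2.cutoff A I M = s)
    (hfin : ∀ i : ℕ, (i : ℕ∞) < Dual2.cutoff A I M → Module.Finite A (LocCoh.H I i M)) :
    ¬ Module.Finite A (LocCoh.H I s M) := by
  intro hf
  obtain ⟨p, q, _, _, hpq, hIp, hIq, hle⟩ := exists_term_eq I M hs
  have h1 : LocCoh.adjDepth I M ⟨p, inferInstance⟩ ≤ s := by
    refine le_trans ?_ hle
    unfold LocCoh.adjDepth term
    exact add_le_add le_rfl (Ideal.height_mono (Ideal.map_mono (sup_le hIq hpq)))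
  have h2 := (GrothLib.Faltings.finDimRel_le_adjDepth I I M ⟨p, inferInstance⟩ hIp).trans h1
  have h3 : ((s + 1 : ℕ) : ℕ∞) ≤ LocCoh.finDimRel I I M := by
    rw [GrothLib.Faltings.le_finDimRel_iff]
    intro i hi x hx
    haveI : Module.Finite A (LocCoh.H I i M) := by
      rcases Nat.lt_succ_iff_lt_or_eq.1 hi with h | h
      · exact hfin i (by rw [hs]; exact_mod_cast h)
      · exact h ▸ hf
    exact GrothLib.Faltings.killed_of_finite (I := I) hx
  have := h3.trans h2
  norm_cast at this
  omega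

end GrothLib.Cutoff3
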