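import Groth.Agent.Lib.SkFlat5.Basic
import Groth.Agent.Lib.CMMor6.Algebra
import Groth.Agent.Lib.Ratliff.Completion
import Groth.Agent.Lib.Excellent.FlatFibres
import Groth.Agent.Lib.SyntLoc.Sk
import Groth.Agent.Lib.FlatOff.FibRing
import Groth.Agent.Lib.FormalDescent.Basic
import Groth.Agent.Lib.RatliffUC3.Main
import Groth.Agent.Lib.Cutoff3.Basic

/-!
# The cutoff invariant along a completion
-/

set_option autoImplicit false
set_option linter.style.haveILetI false
universe u

open IsLocalRing TensorProduct

namespace GrothLib.Cutoff3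

section Flat

variable {R C : Type u} [CommRing R] [CommRing C] [IsNoetherianRing R] [IsNoetherianRing C] [Algebra R C]
  [Module.Flat R C] (P : Ideal C) [P.IsPrime]

omit [IsNoetherianRing R] [IsNoetherianRing C] [Module.Flat R C] in
theorem isLocalRing_fib : IsLocalRing (EGA4.FibLocRing R C P) :=
  GrothLib.FlatOff.isLocalRing_fibLocRing P

/-- Depths along a flat map. -/
theorem depth_formula (M : Type u) [AddCommGroup M] [Module R M] [Module.Finite R M] :
    haveI := isLocalRing_fib (R := R) P
    LocCoh.depth (Localization.AtPrime P) (LocalizedModule P.primeCompl (C ⊗[R] M)) =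
      LocCoh.depth (Localization.AtPrime (P.comap (algebraMap R C)))
        (LocalizedModule (P.comap (algebraMap R C)).primeCompl M) +
      LocCoh.depth (EGA4.FibLocRing R C P) (EGA4.FibLocRing R C P) := by
  haveI := isLocalRing_fib (R := R) P
  haveI := GrothLib.Depth.isNoetherian_atPrime P
  haveI := GrothLib.Depth.isNoetherian_atPrime (P.comap (algebraMap R C))
  rcases subsingleton_or_nontrivial (LocalizedModule (P.comap (algebraMap R C)).primeCompl M) with h | h
  · haveI := GrothLib.SkFlat5.subsingleton_tensor_right (A := R) M C P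
    rw [GrothLib.Depth.depth_eq_top_of_subsingleton (R := Localization.AtPrime (P.comap (algebraMap R C))),
      GrothLib.Depth.depth_eq_top_of_subsingleton (R := Localization.AtPrime P), top_add]
  let e₀ : LocalizedModule P.primeCompl C ≃ₗ[Localization.AtPrime P] Localization.AtPrime P :=
    (LocalizedModule.equivTensorProduct P.primeCompl C).trans (TensorProduct.AlgebraTensorModule.rid C _ _)
  haveI : Nontrivial (LocalizedModule P.primeCompl C) := e₀.toEquiv.nontrivial
  obtain ⟨h1, -, -⟩ := GrothLib.SkFlat5.dep_sdim_tensor (A := R) M C P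
  refine h1.trans ?_
  congr 1
  let e : EGA4.FibLocMod R C P C ≃ₗ[Localization.AtPrime P] EGA4.FibLocRing R C P :=
    Submodule.Quotient.equiv _ _ e₀ (by
      rw [Submodule.map_smul'', Submodule.map_top, LinearEquiv.range, smul_eq_mul, Ideal.mul_top])
  haveI : Module.Finite (Localization.AtPrime P) (EGA4.FibLocRing R C P) :=
    Module.Finite.of_surjective (Algebra.linearMap _ _) Ideal.Quotient.mk_surjective
  haveI : Module.Finite (Localization.AtPrime P) (EGA4.FibLocMod R C P C) := Module.Finite.equiv e.symm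
  exact (GrothLib.Depth.idealDepth_eq_of_equiv _ e).trans
    (GrothLib.Faltings.depth_eq_of_surjective Ideal.Quotient.mk_surjective _)

theorem withBot_add_cancel {n : ℕ} {x : WithBot ℕ∞} {y : ℕ∞}
    (h : ((n : ℕ∞) : WithBot ℕ∞) + (y : WithBot ℕ∞) = ((n : ℕ∞) : WithBot ℕ∞) + x) : (y : WithBot ℕ∞) = x := by
  cases x with
  | bot => simp [← WithBot.coe_add] at h
  | coe x =>
    rw [← WithBot.coe_add, ← WithBot.coe_add, WithBot.coe_inj] at h
    rw [(ENat.add_right_injective_of_ne_top (ENat.coe_ne_top n)).eq_iff.1 h]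

/-- Dimension of the fibre at a prime. -/
theorem ringKrullDim_fib :
    ringKrullDim (EGA4.FibLocRing R C P) =
      ((P.map (Ideal.Quotient.mk ((P.comap (algebraMap R C)).map (algebraMap R C)))).height : WithBot ℕ∞) := by
  let p := P.comap (algebraMap R C)
  haveI := GrothLib.Depth.isNoetherian_atPrime P
  haveI := GrothLib.Depth.isNoetherian_atPrime p
  letI : Algebra (Localization.AtPrime p) (Localization.AtPrime P) :=
    (Localization.localRingHom p P (algebraMap R C) rfl).toAlgebra
  haveI : IsScalarTower R (Localization.AtPrime p) (Localization.AtPrime P) := IsScalarTower.of_algebraMap_eq fun a => by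
    show algebraMap R _ a = Localization.localRingHom p P (algebraMap R C) rfl (algebraMap R _ a)
    rw [Localization.localRingHom_to_map]
    exact IsScalarTower.algebraMap_apply R C _ a
  haveI : IsLocalHom (algebraMap (Localization.AtPrime p) (Localization.AtPrime P)) :=
    Localization.isLocalHom_localRingHom p P (algebraMap R C) rfl
  haveI : Module.Flat (Localization.AtPrime p) (Localization.AtPrime P) :=
    (Module.flat_iff_of_isLocalization (Localization.AtPrime p) p.primeCompl _).mpr (Module.Flat.trans R C _)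
  have h1 := GrothLib.CMMor6.ringKrullDim_eq_add (A := Localization.AtPrime p) (B := Localization.AtPrime P)
  rw [← Localization.AtPrime.map_eq_maximalIdeal, Ideal.map_map, ← IsScalarTower.algebraMap_eq,
    IsLocalization.AtPrime.ringKrullDim_eq_height P, IsLocalization.AtPrime.ringKrullDim_eq_height p] at h1
  have h2 := GrothLib.Ratliff.height_quot_eq_add (R := R) (S := C) ⊥ p P rfl bot_le
  rw [Ideal.map_bot, show (P.map (Ideal.Quotient.mk (⊥ : Ideal C))).height = P.height from
      ((RingEquiv.quotientBot C).symm.height_map P) ▸ rfl,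
    show (p.map (Ideal.Quotient.mk (⊥ : Ideal R))).height = p.height from
      ((RingEquiv.quotientBot R).symm.height_map p) ▸ rfl] at h2
  rw [h2, WithBot.coe_add] at h1
  obtain ⟨n, hn⟩ := ENat.ne_top_iff_exists.1 (Ideal.height_ne_top (I := p) Ideal.IsPrime.ne_top')
  rw [← hn] at h1
  exact (withBot_add_cancel h1).symm

/-- The bound from Serre's condition on a fibre. -/
theorem min_le_depth_fib {n : ℕ} (h : LocCoh.HasSk n ((P.comap (algebraMap R C)).Fiber C) ((P.comap (algebraMap R C)).Fiber C)) :
    haveI := isLocalRing_fib (R := R) P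
    min (n : ℕ∞) (P.map (Ideal.Quotient.mk ((P.comap (algebraMap R C)).map (algebraMap R C)))).height ≤
      LocCoh.depth (EGA4.FibLocRing R C P) (EGA4.FibLocRing R C P) := by
  haveI := isLocalRing_fib (R := R) P
  obtain ⟨Q, ⟨e⟩⟩ := GrothLib.Excellent.exists_fibre_point (A := R) P
  haveI : IsNoetherianRing ((P.comap (algebraMap R C)).Fiber C) :=
    GrothLib.FormalDescent.isNoetherianRing_fiber R C _
  haveI : IsNoetherianRing (Localization.AtPrime Q.asIdeal) := GrothLib.Depth.isNoetherian_atPrime _
  have h1 : GrothLib.SyntLoc.SkBound n (EGA4.FibLocRing R C P) :=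
    GrothLib.SyntLoc.skBound_congr e ((GrothLib.SyntLoc.hasSk_iff_skBound _).1 h Q.asIdeal)
  rw [GrothLib.SyntLoc.SkBound, ringKrullDim_fib] at h1
  exact_mod_cast h1

/-- The fibre at a minimal prime of the extension has depth zero. -/
theorem depth_fib_eq_zero (h : P ∈ ((P.comap (algebraMap R C)).map (algebraMap R C)).minimalPrimes) :
    haveI := isLocalRing_fib (R := R) P
    LocCoh.depth (EGA4.FibLocRing R C P) (EGA4.FibLocRing R C P) = 0 := by
  haveI := isLocalRing_fib (R := R) P
  haveI := GrothLib.Depth.isNoetherian_atPrime P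
  have h1 := GrothLib.CMMor6.depth_le_dim (EGA4.FibLocRing R C P)
  rw [ringKrullDim_fib, GrothLib.Ratliff.height_quot_eq_zero h, WithBot.coe_le_coe] at h1
  exact nonpos_iff_eq_zero.1 h1

end Flat

section Completion

variable {R : Type u} [CommRing R] [IsLocalRing R] [IsNoetherianRing R] (hR : CAlg.IsUniversallyCatenary R)

open GrothLib.Ratliff

include hR in
/-- Intervals in the completion of a universally catenary local ring. -/
theorem height_compare (P Q : Ideal (EGA4.Cpl R)) [P.IsPrime] [Q.IsPrime] (hPQ : P ≤ Q) :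
    (Q.map (Ideal.Quotient.mk P)).height +
        (P.map (Ideal.Quotient.mk ((P.under R).map (algebraMap R (EGA4.Cpl R))))).height =
      ((Q.under R).map (Ideal.Quotient.mk (P.under R))).height +
        (Q.map (Ideal.Quotient.mk ((Q.under R).map (algebraMap R (EGA4.Cpl R))))).height := by
  haveI := GrothLib.Excellent.faithfullyFlat_cpl R
  set C := EGA4.Cpl R
  set p := P.under R with hp
  set J := p.map (algebraMap R C) with hJ
  have hJP : J ≤ P := Ideal.map_comap_le
  rw [← height_quot_eq_add p (Q.under R) Q rfl (Ideal.comap_mono hPQ), ← hJ]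
  haveI : IsLocalRing (R ⧸ p) := IsLocalRing.of_surjective' (Ideal.Quotient.mk p) Ideal.Quotient.mk_surjective
  have heq := GrothLib.RatliffUC3.isFormallyCatenary hR p
  rw [isFormallyEquidim_quotient_iff, isEquidim_quotient_iff (map_ne_top Ideal.IsPrime.ne_top')] at heq
  have key : ∀ (X : Ideal C) [X.IsPrime], J ≤ X → qdim J = (X.map (Ideal.Quotient.mk J)).height + qdim X := by
    intro X _ hX
    obtain ⟨Q0, hQ0, hQ0X, hh⟩ := exists_minimal_height J X hX
    haveI := hQ0.1.1
    rw [← heq Q0 hQ0, hh]
    exact height_quot_add Q0 X (maximalIdeal C) hQ0X (IsLocalRing.le_maximalIdeal Ideal.IsPrime.ne_top')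
      (GrothLib.CatBasics.isCatenary_of_surjective _ Ideal.Quotient.mk_surjective isCatenary_cpl)
  have hP := key P hJP
  have hQ := key Q (hJP.trans hPQ)
  have hsplit : qdim P = (Q.map (Ideal.Quotient.mk P)).height + qdim Q :=
    height_quot_add P Q (maximalIdeal C) hPQ (IsLocalRing.le_maximalIdeal Ideal.IsPrime.ne_top')
      (GrothLib.CatBasics.isCatenary_of_surjective _ Ideal.Quotient.mk_surjective isCatenary_cpl)
  rw [hP, hsplit, ← add_assoc] at hQ
  rw [(ENat.add_left_injective_of_ne_top (qdim_ne_top (I := Q) Ideal.IsPrime.ne_top')).eq_iff] at hQ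
  rw [← hQ, add_comm]

include hR in
/-- The cutoff invariant does not grow in the completion. -/
theorem cutoff_cpl_le (I : Ideal R) (M : Type u) [AddCommGroup M] [Module R M] [Module.Finite R M] :
    Dual2.cutoff (EGA4.Cpl R) (I.map (algebraMap R (EGA4.Cpl R))) (EGA4.Cpl R ⊗[R] M) ≤ Dual2.cutoff R I M := by
  haveI := GrothLib.Excellent.faithfullyFlat_cpl R
  set C := EGA4.Cpl R
  refine (le_cutoff_iff I M _).2 fun p q _ _ hpq hIp hIq => ?_
  obtain ⟨Q, hQ⟩ := Ideal.nonempty_minimalPrimes (map_ne_top (A' := C) (I := q) Ideal.IsPrime.ne_top')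
  haveI := hQ.1.1
  have hQq : Q.under R = q := comap_of_minimalPrimes q hQ
  haveI : Q.LiesOver q := ⟨hQq.symm⟩
  obtain ⟨P1, hP1Q, _, hP1⟩ := Q.exists_ideal_le_liesOver_of_le (p := p) (q := q) hpq
  obtain ⟨P, hP, hPP1⟩ := Ideal.exists_minimalPrimes_le
    (show p.map (algebraMap R C) ≤ P1 from Ideal.map_le_iff_le_comap.2 hP1.over.le)
  haveI := hP.1.1
  have hPp : P.under R = p := comap_of_minimalPrimes p hP
  refine le_trans (cutoff_le_term _ _ (hPP1.trans hP1Q) ?_ ?_) (le_of_eq ?_)
  · exact fun h => hIp (hPp ▸ fun x hx => h (Ideal.mem_map_of_mem _ hx))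
  · exact (Ideal.map_mono hIq).trans hQ.1.2
  have hh := height_compare hR P Q (hPP1.trans hP1Q)
  rw [hPp, hQq, height_quot_eq_zero hP, height_quot_eq_zero hQ, add_zero, add_zero] at hh
  unfold term
  rw [depth_formula (R := R) P M, depth_fib_eq_zero (R := R) P (by rw [show P.comap (algebraMap R C) = p from hPp]; exact hP),
    add_zero, hh]
  congr 1
  subst hPp
  rfl

include hR in
/-- With `(S_n)` formal fibres the invariant drops at most to `n + 1`. -/
theorem min_le_cutoff_cpl (n : ℕ) (hn : EGA4.HasSnFormalFibres n R) (I : Ideal R)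
    (M : Type u) [AddCommGroup M] [Module R M] [Module.Finite R M] :
    min ((n : ℕ∞) + 1) (Dual2.cutoff R I M) ≤
      Dual2.cutoff (EGA4.Cpl R) (I.map (algebraMap R (EGA4.Cpl R))) (EGA4.Cpl R ⊗[R] M) := by
  haveI := GrothLib.Excellent.faithfullyFlat_cpl R
  set C := EGA4.Cpl R
  refine (le_cutoff_iff _ _ _).2 fun P Q _ _ hPQ hIP hIQ => ?_
  have hIp : ¬ I ≤ P.under R := fun h => hIP (Ideal.map_le_iff_le_comap.2 h)
  have hIq : I ≤ Q.under R := Ideal.map_le_iff_le_comap.1 hIQ
  have hterm := cutoff_le_term I M (Ideal.comap_mono (f := algebraMap R C) hPQ) hIp hIq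
  have hδ := min_le_depth_fib (R := R) P (hn (P.under R))
  have hh := height_compare hR P Q hPQ
  have h1 : 1 ≤ (Q.map (Ideal.Quotient.mk P)).height :=
    GrothLib.RatliffUC3.one_le_height_map (lt_of_le_of_ne hPQ fun h => hIP (h ▸ hIQ))
  unfold term at hterm ⊢
  rw [depth_formula (R := R) P M]
  set d := LocCoh.depth (Localization.AtPrime (P.comap (algebraMap R C)))
    (LocalizedModule (P.comap (algebraMap R C)).primeCompl M)
  haveI := isLocalRing_fib (R := R) P
  set δ := LocCoh.depth (EGA4.FibLocRing R C P) (EGA4.FibLocRing R C P)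
  rcases le_total (P.map (Ideal.Quotient.mk ((P.under R).map (algebraMap R C)))).height (n : ℕ∞) with hf | hf
  · refine (min_le_right _ _).trans (hterm.trans ?_)
    calc d + ((Q.under R).map (Ideal.Quotient.mk (P.under R))).height
        ≤ d + ((Q.map (Ideal.Quotient.mk P)).height +
            (P.map (Ideal.Quotient.mk ((P.under R).map (algebraMap R C)))).height) := by
          rw [hh]; exact add_le_add le_rfl le_self_add
      _ ≤ d + ((Q.map (Ideal.Quotient.mk P)).height + δ) :=
          add_le_add le_rfl (add_le_add le_rfl ((min_eq_right hf).symm.trans_le hδ))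
      _ = d + δ + (Q.map (Ideal.Quotient.mk P)).height := by abel
  · refine (min_le_left _ _).trans ?_
    calc (n : ℕ∞) + 1 ≤ δ + (Q.map (Ideal.Quotient.mk P)).height :=
          add_le_add ((min_eq_left hf).symm.trans_le hδ) h1
      _ ≤ d + δ + (Q.map (Ideal.Quotient.mk P)).height := add_le_add le_add_self le_rfl

end Completion

end GrothLib.Cutoff3
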