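import Groth.Agent.Lib.Cutoff3.Basic
import Groth.Agent.Lib.FFDescent.Serre
import Groth.Agent.Lib.LC.FlatBC
import Groth.Agent.Lib.LC.BaseChange
import Groth.Agent.Lib.Altitude.Basic
import Groth.Agent.Lib.Altitude.Scheme
import Mathlib.RingTheory.Ideal.GoingUp

/-!
# The cutoff invariant along a finite algebra
-/

set_option autoImplicit false
set_option linter.style.haveILetI false
universe u

open IsLocalRing TensorProduct

namespace GrothLib.Cutoff3

/-- Depth at a prime through torsion of local cohomology. -/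
theorem le_depth_iff {B : Type u} [CommRing B] [IsNoetherianRing B] (M : Type u) [AddCommGroup M] [Module B M]
    [Module.Finite B M] (J P : Ideal B) [P.IsPrime] (hP : P ∈ J.minimalPrimes) (n : ℕ) :
    (n : ℕ∞) ≤ LocCoh.depth (Localization.AtPrime P) (LocalizedModule P.primeCompl M) ↔
      ∀ i < n, ∀ z : LocCoh.H J i M, ∃ s ∉ P, s • z = 0 := by
  let L := Localization.AtPrime P
  haveI : IsNoetherianRing L := GrothLib.Depth.isNoetherian_atPrime P
  haveI : Module.Finite L (LocalizedModule P.primeCompl M) :=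
    Module.Finite.of_isLocalizedModule P.primeCompl (LocalizedModule.mkLinearMap P.primeCompl M)
  have hrad : (J.map (algebraMap B L)).radical = (maximalIdeal L).radical := by
    rw [(maximalIdeal.isMaximal L).isPrime.radical, Ideal.radical_eq_sInf]
    refine le_antisymm (sInf_le ⟨?_, inferInstance⟩) (le_sInf fun Q ⟨hQ, hQp⟩ => ?_)
    · exact (Ideal.map_mono hP.1.2).trans (Localization.AtPrime.map_eq_maximalIdeal (I := P)).le
    · have h1 : P ≤ Q.under B := hP.2 ⟨inferInstance, Ideal.map_le_iff_le_comap.1 hQ⟩ fun x hx => by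
        by_contra hxP
        exact hQp.ne_top (Ideal.eq_top_of_isUnit_mem Q hx (IsLocalization.map_units L (⟨x, hxP⟩ : P.primeCompl)))
      rw [← Localization.AtPrime.map_eq_maximalIdeal]
      exact Ideal.map_le_iff_le_comap.2 h1
  unfold LocCoh.depth
  rw [GrothLib.Depth.idealDepth_eq_of_equiv _ (LocalizedModule.equivTensorProduct P.primeCompl M),
    GrothLib.Depth.le_idealDepth_iff_H]
  refine forall₂_congr fun i _ => ?_
  show Subsingleton ((localCohomology (maximalIdeal L) i).obj (ModuleCat.of L (L ⊗[B] M))) ↔ _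
  rw [← ((localCohomology.isoOfSameRadical hrad i).app (ModuleCat.of L (L ⊗[B] M))).toLinearEquiv.toEquiv.subsingleton_congr]
  obtain ⟨e⟩ := GrothLib.LC.nonempty_baseChange_equiv (R' := L) J i M
  rw [← e.toEquiv.subsingleton_congr,
    ← (LocalizedModule.equivTensorProduct P.primeCompl (LocCoh.H J i M)).toEquiv.subsingleton_congr,
    LocalizedModule.subsingleton_iff]
  rfl

variable {A B : Type u} [CommRing A] [CommRing B] [Algebra A B] [IsNoetherianRing A] [IsNoetherianRing B]
  [Module.Finite A B]

omit [IsNoetherianRing A] [IsNoetherianRing B] in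
theorem mem_minimalPrimes_map (P : Ideal B) [P.IsPrime] :
    P ∈ ((P.under A).map (algebraMap A B)).minimalPrimes := by
  refine ⟨⟨inferInstance, Ideal.map_comap_le⟩, fun Q hQ hQP => ?_⟩
  haveI := hQ.1
  by_contra hne
  obtain ⟨x, hxP, hxQ⟩ := SetLike.not_le_iff_exists.1 hne
  have hlt : Q < P := lt_of_le_not_ge hQP hne
  have h1 := Ideal.comap_lt_comap_of_integral_mem_sdiff (R := A) hQP ⟨hxP, hxQ⟩ (Algebra.IsIntegral.isIntegral x)
  exact h1.not_ge (Ideal.map_le_iff_le_comap.1 hQ.2)

variable (M : Type u) [AddCommGroup M] [Module B M] [Module A M] [IsScalarTower A B M] [Module.Finite B M]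
  [Module.Finite A M]

/-- The depth downstairs is bounded by the depths upstairs. -/
theorem depth_le_depth (P : Ideal B) [P.IsPrime] :
    LocCoh.depth (Localization.AtPrime (P.under A)) (LocalizedModule (P.under A).primeCompl M) ≤
      LocCoh.depth (Localization.AtPrime P) (LocalizedModule P.primeCompl M) := by
  refine GrothLib.Depth.le_of_forall_coe_le fun n hn => ?_
  rw [le_depth_iff M (P.under A) (P.under A) ⟨⟨inferInstance, le_rfl⟩, fun _ hQ _ => hQ.2⟩ n] at hn
  rw [le_depth_iff M _ P (mem_minimalPrimes_map (A := A) P) n]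
  intro i hi z
  obtain ⟨φ, hφ⟩ := GrothLib.LC.exists_H_addEquiv_restrictScalars (R := A) (R' := B) (P.under A) i M
  obtain ⟨s, hs, hsz⟩ := hn i hi (φ z)
  exact ⟨algebraMap A B s, hs, φ.injective (by rw [hφ, map_zero]; exact hsz)⟩

/-- The depth downstairs is attained upstairs. -/
theorem exists_depth_le (p : Ideal A) [p.IsPrime] (n : ℕ)
    (h : ∀ (P : Ideal B) [P.IsPrime], P.under A = p →
      (n : ℕ∞) ≤ LocCoh.depth (Localization.AtPrime P) (LocalizedModule P.primeCompl M)) :
    (n : ℕ∞) ≤ LocCoh.depth (Localization.AtPrime p) (LocalizedModule p.primeCompl M) := by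
  rw [le_depth_iff M p p ⟨⟨inferInstance, le_rfl⟩, fun _ hQ _ => hQ.2⟩ n]
  intro i hi w
  obtain ⟨φ, hφ⟩ := GrothLib.LC.exists_H_addEquiv_restrictScalars (R := A) (R' := B) p i M
  obtain ⟨z, rfl⟩ := φ.surjective w
  by_contra hcon
  push Not at hcon
  let ann : Ideal B := LinearMap.ker (LinearMap.toSpanSingleton B (LocCoh.H (p.map (algebraMap A B)) i M) z)
  have hle : ann.comap (algebraMap A B) ≤ p := fun s hs => by
    by_contra hsp
    refine hcon s hsp ?_
    rw [← hφ]
    exact (congrArg φ (show algebraMap A B s • z = 0 from hs)).trans (map_zero φ)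
  haveI : Algebra.IsIntegral A B := Algebra.IsIntegral.of_finite A B
  obtain ⟨Q, hQ, hQprime, hQp⟩ := Ideal.exists_ideal_over_prime_of_isIntegral p ann hle
  haveI := hQprime
  obtain ⟨s, hs, hsz⟩ := (le_depth_iff M _ Q (mem_minimalPrimes_map (A := A) Q) n).1 (h Q hQp) i hi
    ((congrArg (fun J => LocCoh.H (J.map (algebraMap A B)) i M) hQp.symm) ▸ z)
  subst hQp
  exact hs (hQ hsz)

omit [IsNoetherianRing B] in
/-- Heights in a finite algebra over a universally catenary ring. -/
theorem height_quot_finite (hA : CAlg.IsUniversallyCatenary A) (P Q : Ideal B) [P.IsPrime] [Q.IsPrime] (h : P ≤ Q) :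
    (Q.map (Ideal.Quotient.mk P)).height = ((Q.under A).map (Ideal.Quotient.mk (P.under A))).height := by
  haveI : (Q.map (Ideal.Quotient.mk P)).IsPrime := Ideal.isPrime_map_quotientMk_of_isPrime h
  haveI : ((Q.under A).map (Ideal.Quotient.mk (P.under A))).IsPrime :=
    Ideal.isPrime_map_quotientMk_of_isPrime (Ideal.comap_mono h)
  haveI : Module.Finite (A ⧸ P.under A) (B ⧸ P) := Module.Finite.of_restrictScalars_finite A _ _
  haveI : Algebra.FiniteType (A ⧸ P.under A) (B ⧸ P) := inferInstance
  haveI : FaithfulSMul (A ⧸ P.under A) (B ⧸ P) := (faithfulSMul_iff_algebraMap_injective _ _).2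
    Ideal.quotientMap_injective
  haveI : (Q.map (Ideal.Quotient.mk P)).LiesOver ((Q.under A).map (Ideal.Quotient.mk (P.under A))) := ⟨by
    refine Ideal.comap_injective_of_surjective _ Ideal.Quotient.mk_surjective ?_
    rw [Ideal.comap_map_of_surjective' _ Ideal.Quotient.mk_surjective, Ideal.mk_ker,
      sup_eq_left.2 (Ideal.comap_mono h : P.under A ≤ Q.under A)]
    show Q.comap (algebraMap A B) = ((Q.map (Ideal.Quotient.mk P)).comap (algebraMap (A ⧸ P.under A) (B ⧸ P))).comap
      (Ideal.Quotient.mk (P.under A))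
    rw [Ideal.comap_comap]
    show _ = (Q.map (Ideal.Quotient.mk P)).comap ((Ideal.Quotient.mk P).comp (algebraMap A B))
    rw [← Ideal.comap_comap, Ideal.comap_map_of_surjective' _ Ideal.Quotient.mk_surjective, Ideal.mk_ker, sup_eq_left.2 h]⟩
  obtain ⟨t, s, ht, hs, -, heq⟩ := GrothLib.Altitude.height_add_trdeg (A ⧸ P.under A) (B ⧸ P)
    ((Q.under A).map (Ideal.Quotient.mk (P.under A))) (Q.map (Ideal.Quotient.mk P))
  haveI : Algebra.IsAlgebraic (A ⧸ P.under A) (B ⧸ P) := Algebra.IsIntegral.isAlgebraic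
  haveI : Algebra.IsAlgebraic ((A ⧸ P.under A) ⧸ (Q.under A).map (Ideal.Quotient.mk (P.under A)))
      ((B ⧸ P) ⧸ Q.map (Ideal.Quotient.mk P)) := Algebra.IsIntegral.isAlgebraic
  rw [trdeg_eq_zero, eq_comm, Nat.cast_eq_zero] at ht hs
  subst ht hs
  haveI : IsLocalization (⊥ : Submonoid (A ⧸ P.under A)) (A ⧸ P.under A) := IsLocalization.self bot_le
  simpa using heq ⊥ (A ⧸ P.under A) bot_le
    (GrothLib.Altitude.isUniversallyCatenary_of_surjective _ Ideal.Quotient.mk_surjective hA)

omit [Module.Finite A M] in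
/-- **Invariance of the cutoff** in finite algebras. -/
theorem cutoff_finite_algebra (hA : CAlg.IsUniversallyCatenary A) (I : Ideal A) :
    Dual2.cutoff B (I.map (algebraMap A B)) M = Dual2.cutoff A I M := by
  haveI : Module.Finite A M := Module.Finite.trans B M
  haveI : Algebra.IsIntegral A B := Algebra.IsIntegral.of_finite A B
  refine le_antisymm ((le_cutoff_iff I M _).2 fun p q _ _ hpq hIp hIq => ?_)
    ((le_cutoff_iff _ M _).2 fun P Q _ _ hPQ hIP hIQ => ?_)
  · unfold term
    cases hd : LocCoh.depth (Localization.AtPrime p) (LocalizedModule p.primeCompl M) using ENat.recTopCoe with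
    | top => rw [top_add]; exact le_top
    | coe d =>
      obtain ⟨P, hPp, hPd, hP⟩ : ∃ (P : Ideal B) (_ : P.IsPrime), P.under A = p ∧
          LocCoh.depth (Localization.AtPrime P) (LocalizedModule P.primeCompl M) ≤ d := by
        by_contra hcon
        push Not at hcon
        have := exists_depth_le M p (d + 1) fun P hP hPp => by
          rw [Nat.cast_succ]; exact Order.add_one_le_of_lt (hcon P hP hPp)
        rw [hd] at this
        norm_cast at this
        omega
      haveI := hPp
      obtain ⟨Q, hPQ, hQ, hQq⟩ := Ideal.exists_ideal_over_prime_of_isIntegral q P (hPd.le.trans hpq)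
      refine (cutoff_le_term _ M hPQ (fun h => hIp (hPd ▸ Ideal.map_le_iff_le_comap.1 h))
        (Ideal.map_le_iff_le_comap.2 (hIq.trans hQq.ge))).trans ?_
      unfold term
      rw [height_quot_finite (A := A) hA P Q hPQ, hPd, show Q.under A = q from hQq]
      exact add_le_add hP le_rfl
  · refine (cutoff_le_term I M (Ideal.comap_mono (f := algebraMap A B) hPQ)
      (fun h => hIP (Ideal.map_le_iff_le_comap.2 h)) (Ideal.map_le_iff_le_comap.1 hIQ)).trans ?_
    unfold term
    rw [height_quot_finite (A := A) hA P Q hPQ]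
    exact add_le_add (depth_le_depth M P) le_rfl

end GrothLib.Cutoff3
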