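import Groth.Agent.Lib.Cutoff3.Fibre
import Groth.Agent.Lib.Faltings.LowerBound
import Groth.Agent.Lib.LC.FlatBC
import Groth.Agent.Lib.SnFibres.Basic
import Groth.Agent.Lib.Ratliff.EssFiniteType
import Mathlib.RingTheory.Finiteness.Descent

/-!
# Finiteness of local cohomology below the cutoff
-/

set_option autoImplicit false
set_option linter.style.haveILetI false
universe u

open IsLocalRing TensorProduct

namespace GrothLib.Cutoff3

variable {A : Type u} [CommRing A] [IsNoetherianRing A] (I : Ideal A) (M : Type u) [AddCommGroup M] [Module A M]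
  [Module.Finite A M]

/-- The cutoff does not drop in a localisation. -/
theorem cutoff_le_localization (r : Ideal A) [r.IsPrime] :
    Dual2.cutoff A I M ≤ Dual2.cutoff (Localization.AtPrime r) (I.map (algebraMap A (Localization.AtPrime r)))
      (Localization.AtPrime r ⊗[A] M) := by
  let L := Localization.AtPrime r
  haveI : IsNoetherianRing L := GrothLib.Depth.isNoetherian_atPrime r
  refine (le_cutoff_iff _ _ _).2 fun p' q' _ _ hpq hIp hIq => ?_
  refine (cutoff_le_term I M (p := p'.under A) (q := q'.under A) (Ideal.comap_mono hpq)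
    (fun h => hIp (Ideal.map_le_iff_le_comap.2 h)) (Ideal.map_le_iff_le_comap.1 hIq)).trans (add_le_add ?_ ?_)
  · refine le_of_eq (GrothLib.Faltings.depth_localization_comap (R := A) (R' := L) (p'.under A) p' rfl
      (TensorProduct.mk A L M 1) (fun z => ?_) (fun z => ?_) fun m hm => ?_)
    · obtain ⟨⟨a, s⟩, hs⟩ := IsLocalization.surj r.primeCompl z
      exact ⟨s, a, fun h => Ideal.IsPrime.ne_top' (Ideal.eq_top_of_isUnit_mem p' h (IsLocalization.map_units L s)),
        by rw [Algebra.smul_def, mul_comm]; exact hs⟩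
    · obtain ⟨⟨m, s⟩, hs⟩ := IsLocalizedModule.surj r.primeCompl (TensorProduct.mk A L M 1) z
      exact ⟨s, m, fun h => Ideal.IsPrime.ne_top' (Ideal.eq_top_of_isUnit_mem p' h (IsLocalization.map_units L s)), hs⟩
    · obtain ⟨s, hs⟩ := IsLocalizedModule.exists_of_eq (S := r.primeCompl) (f := TensorProduct.mk A L M 1)
        (x₁ := m) (x₂ := 0) (hm.trans (map_zero _).symm)
      exact ⟨s, fun h => Ideal.IsPrime.ne_top' (Ideal.eq_top_of_isUnit_mem p' h (IsLocalization.map_units L s)),
        by simpa [Submonoid.smul_def] using hs⟩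
  · refine GrothLib.Faltings.relHeight_comap_le (algebraMap A L)
      (fun P Q _ _ => GrothLib.Faltings.comap_le_comap_localization _ P Q) rfl rfl hpq fun t _ _ htq => ?_
    refine GrothLib.Faltings.exists_prime_comap_localization _ t (GrothLib.Faltings.disjoint_primeCompl ?_)
    intro x hx
    by_contra hxr
    exact Ideal.IsPrime.ne_top' (Ideal.eq_top_of_isUnit_mem q' (htq hx) (IsLocalization.map_units L (⟨x, hxr⟩ : r.primeCompl)))

/-- Finiteness below the cutoff over a complete local ring. -/
theorem finite_H_of_complete (C : Type u) [CommRing C] [IsLocalRing C] [IsNoetherianRing C]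
    [IsAdicComplete (maximalIdeal C) C] (J : Ideal C) (hJ : J ≠ ⊤) (N : Type u) [AddCommGroup N] [Module C N]
    [Module.Finite C N] (i : ℕ) (hi : (i : ℕ∞) < Dual2.cutoff C J N) : Module.Finite C (LocCoh.H J i N) := by
  have h1 : Dual2.cutoff C J N ≤ LocCoh.minAdjDepth J J N := by
    refine le_iInf₂ fun p hp => ?_
    have htop : J ⊔ p.asIdeal ≠ ⊤ := ne_top_of_le_ne_top (maximalIdeal.isMaximal C).ne_top
      (sup_le (IsLocalRing.le_maximalIdeal hJ) (IsLocalRing.le_maximalIdeal p.2.ne_top))
    obtain ⟨q, hq, hqh⟩ := GrothLib.Faltings.exists_minimalPrime_relHeight_eq J p.asIdeal htop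
    haveI := hq.isPrime
    refine (cutoff_le_term J N (le_trans le_sup_right hq.le) hp (le_trans le_sup_left hq.le)).trans (le_of_eq ?_)
    exact congrArg _ hqh
  obtain ⟨R0, _, _, f, hf⟩ := GrothLib.Ratliff.exists_regular_surjection C
  have h2 : ((i + 1 : ℕ) : ℕ∞) ≤ LocCoh.finDimRel J J N := by
    refine le_trans ?_ (h1.trans (GrothLib.Faltings.minAdjDepth_le_finDimRel f hf J J N))
    rw [Nat.cast_succ]
    exact Order.add_one_le_of_lt hi
  exact GrothLib.Faltings.finite_of_killed i N fun j hj x hx =>
    (GrothLib.Faltings.le_finDimRel_iff _).1 h2 j (by omega) x hx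

/-- **Finiteness below the cutoff**. -/
theorem finite_H (hA : CAlg.IsUniversallyCatenary A)
    (hF : ∀ q : PrimeSpectrum A, EGA4.HasCMFormalFibres (Localization.AtPrime q.asIdeal))
    (i : ℕ) (hi : (i : ℕ∞) < Dual2.cutoff A I M) : Module.Finite A (LocCoh.H I i M) := by
  refine GrothLib.Faltings.finite_of_locally i M fun r _ j hj => ?_
  have hjs : (j : ℕ∞) < Dual2.cutoff A I M := lt_of_le_of_lt (by exact_mod_cast hj) hi
  let L := Localization.AtPrime r
  haveI : IsNoetherianRing L := GrothLib.Depth.isNoetherian_atPrime r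
  by_cases hIr : I ≤ r
  swap
  · obtain ⟨x, hxI, hxr⟩ := SetLike.not_le_iff_exists.1 hIr
    haveI : Subsingleton (LocalizedModule r.primeCompl (LocCoh.H I j M)) := by
      refine LocalizedModule.subsingleton_iff.2 fun z => ?_
      obtain ⟨k, hk⟩ := GrothLib.LC.isPowerTorsion I j (ModuleCat.of A M) z
      exact ⟨x ^ k, fun h => hxr (‹r.IsPrime›.mem_of_pow_mem k h), hk _ (Ideal.pow_mem_pow hxI k)⟩
    infer_instance
  let C := EGA4.Cpl L
  haveI := GrothLib.Excellent.faithfullyFlat_cpl L
  haveI : IsScalarTower A L C := inferInstance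
  haveI : Module.Flat A C := Module.Flat.trans A L C
  have hL : CAlg.IsUniversallyCatenary L := GrothLib.Excellent.isUniversallyCatenary_localization r.primeCompl hA
  have hmap : I.map (algebraMap A C) = (I.map (algebraMap A L)).map (algebraMap L C) := by
    rw [Ideal.map_map, ← IsScalarTower.algebraMap_eq]
  have hItop : I.map (algebraMap A L) ≠ ⊤ := ne_top_of_le_ne_top (maximalIdeal.isMaximal L).ne_top
    ((Ideal.map_mono hIr).trans (Localization.AtPrime.map_eq_maximalIdeal (I := r)).le)
  have hcut : Dual2.cutoff A I M ≤ Dual2.cutoff C (I.map (algebraMap A C)) (C ⊗[A] M) := by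
    rw [hmap, ← cutoff_congr _ (AlgebraTensorModule.cancelBaseChange A L C C M)]
    refine (cutoff_le_localization I M r).trans (GrothLib.Depth.le_of_forall_coe_le fun n hn => ?_)
    refine le_trans ?_ (min_le_cutoff_cpl hL n
      (fun p _ => @GrothLib.SnFibres.isCohenMacaulayRing_iff_forall_hasSk _ _
        (GrothLib.FormalDescent.isNoetherianRing_fiber L C p) |>.1 (hF ⟨r, inferInstance⟩ p) n) _ _)
    exact le_min le_self_add hn
  haveI : Module.Finite C (LocCoh.H (I.map (algebraMap A C)) j (C ⊗[A] M)) :=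
    finite_H_of_complete C _ (by rw [hmap]; exact GrothLib.Ratliff.map_ne_top hItop) _ j (lt_of_lt_of_le hjs hcut)
  obtain ⟨e⟩ := GrothLib.LC.nonempty_baseChange_equiv (R' := C) I j M
  haveI : Module.Finite C (C ⊗[A] LocCoh.H I j M) := Module.Finite.equiv e.symm
  haveI : Module.Finite C (C ⊗[L] LocalizedModule r.primeCompl (LocCoh.H I j M)) :=
    Module.Finite.equiv ((AlgebraTensorModule.cancelBaseChange A L C C (LocCoh.H I j M)).symm.trans
      (AlgebraTensorModule.congr (LinearEquiv.refl C C)
        (LocalizedModule.equivTensorProduct r.primeCompl (LocCoh.H I j M)).symm))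
  exact Module.Finite.of_finite_tensorProduct_of_faithfullyFlat C

end GrothLib.Cutoff3
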